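import Cfsg.Agent.H18.PushA
set_option linter.all false

/-!
# Odd automorphism groups of a Sylow 2-subgroup lying in a unique maximal subgroup

(helper18, for S3022.)
-/

set_option autoImplicit false
set_option linter.unusedSectionVars false

namespace Cfsg.Agent.H18.PushOdd

open Subgroup Cfsg Cfsg.Agent.ZN Cfsg.Agent.ZN.ChoiceBase Cfsg.Agent.ZN.ChoiceSit
open Cfsg.Agent.H18.PushEnd Cfsg.Agent.H18.PushA
open Cfsg.Agent.MinSimple.MinParabolic (IsMinPar)
open Cfsg.Agent.Lib.Cores
open scoped Pointwise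

universe u

variable {X : Type u} [Group X]

/-- `Aut(T) → Sym(X)` -/
noncomputable def extHom (T : Subgroup X) : MulAut T →* Equiv.Perm X where
  toFun := extPerm T
  map_one' := by
    ext x
    show (x * rr T x) * (rr T x)⁻¹ = x
    group
  map_mul' α β := by
    ext x
    show PushEnd.ext T (α * β : MulAut T) x = PushEnd.ext T α (PushEnd.ext T β x)
    have h1 := rr_ext T β x
    rw [PushEnd.ext, PushEnd.ext]
    have h2 : (⟨PushEnd.ext T β x * rr T (PushEnd.ext T β x), mul_rr_mem T _⟩ : T) =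
        β ⟨x * rr T x, mul_rr_mem T x⟩ := by
      apply Subtype.ext
      show PushEnd.ext T β x * rr T (PushEnd.ext T β x) = _
      rw [h1, PushEnd.ext, inv_mul_cancel_right]
    rw [h2, h1]
    rfl

theorem extHom_conj (T : Subgroup X) (α : MulAut T) {s : X} (hs : s ∈ T) :
    extHom T α * lam X s * (extHom T α)⁻¹ = lam X (α ⟨s, hs⟩ : X) := extPerm_conj T α hs

theorem extHom_norm (T : Subgroup X) (α : MulAut T) :
    extHom T α ∈ normalizer (T.map (lam X) : Set (Equiv.Perm X)) := by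
  rw [mem_normalizer_iff]
  intro y
  constructor
  · rintro ⟨s, hs, rfl⟩
    rw [extHom_conj T α hs]
    exact mem_map_of_mem _ (α _).2
  · rintro ⟨s, hs, e⟩
    have h1 := extHom_conj T α⁻¹ hs
    rw [e, map_inv] at h1
    have h2 : y = lam X ((α⁻¹ : MulAut T) ⟨s, hs⟩ : X) := by
      rw [← h1]; group
    rw [h2]
    exact mem_map_of_mem _ (Subtype.prop _)

theorem syl_im [Finite X] (T : Sylow 2 X) : Syl ((T : Subgroup X).map (lam X)) (im X) := by
  refine ⟨?_, T.isPGroup'.map _, fun Q hQ hQ2 hTQ => ?_⟩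
  · rintro _ ⟨x, -, rfl⟩
    exact lam_mem x
  · have h1 : (T : Subgroup X) ≤ Q.comap (lam X) := Subgroup.map_le_iff_le_comap.1 hTQ
    have h2 : Q.comap (lam X) = T := T.is_maximal' (hQ2.comap_of_injective _ lam_inj) h1
    rw [← map_comap hQ, h2]

theorem sc_im [Finite X] (hX : IsOfCharacteristicTwo X) :
    im X ⊓ centralizer (o2 (im X) : Set (Equiv.Perm X)) ≤ o2 (im X) := by
  rintro _ ⟨⟨x, rfl⟩, hxc⟩
  rw [mem_o2]
  apply hX
  rw [mem_centralizer_iff]
  intro p hp
  have h1 := mem_centralizer_iff.1 hxc (lam X p) (mem_o2.2 hp)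
  rw [← map_mul, ← map_mul] at h1
  exact lam_inj h1

theorem minPar_im [Finite X] {T : Subgroup X} (hn : ¬ T.Normal)
    (hM : ∃! M : Subgroup X, IsCoatom M ∧ T ≤ M) : IsMinPar (T.map (lam X)) (im X) := by
  obtain ⟨M, ⟨hM1, hM2⟩, hM3⟩ := hM
  refine {
    le := ?_
    not_le := fun h => hn ?_
    exists_max := ⟨M.map (lam X), ?_, fun K hK1 hK2 => ?_⟩ }
  · rintro _ ⟨x, -, rfl⟩
    exact lam_mem x
  · have h1 := comap_normal h
    rwa [Subgroup.comap_map_eq_self_of_injective lam_inj] at h1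
  · refine lt_of_le_of_ne ?_ fun e => hM1.1 ?_
    · rintro _ ⟨x, -, rfl⟩
      exact lam_mem x
    · rw [eq_top_iff]
      intro x _
      have := lam_mem x
      rw [← e] at this
      exact mem_map.1 this
  · have h1 : T ≤ K.comap (lam X) := Subgroup.map_le_iff_le_comap.1 hK1
    have h2 : K.comap (lam X) ≠ ⊤ := by
      intro e
      apply hK2.not_ge
      rintro _ ⟨x, rfl⟩
      have : x ∈ K.comap (lam X) := by rw [e]; exact mem_top _
      exact this
    obtain ⟨N, hN1, hN2⟩ := (IsCoatomic.eq_top_or_exists_le_coatom (K.comap (lam X))).resolve_left h2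
    have h3 := hM3 N ⟨hN1, h1.trans hN2⟩
    rw [← map_comap hK2.le, ← h3]
    exact Subgroup.map_mono hN2

/-- **S3022** -/
theorem main [Finite X] (hFF : Cfsg.Agent.Omega.FFThm.Stmt.{u}) (hX : IsOfCharacteristicTwo X)
    (S : Sylow 2 X) (hM : ∃! M : Subgroup X, IsCoatom M ∧ (S : Subgroup X) ≤ M)
    (A : Subgroup (MulAut ↥(S : Subgroup X))) (hA : Odd (Nat.card A)) :
    ∃ U : Subgroup X, U ≠ ⊥ ∧ U.Normal ∧ U ≤ (S : Subgroup X) ∧
      ∀ a ∈ A, ∀ x : ↥(S : Subgroup X), (x : X) ∈ U → ((a x : ↥(S : Subgroup X)) : X) ∈ U := by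
  by_contra hcon
  push Not at hcon
  have hS : (S : Subgroup X) ≠ ⊥ := by
    intro h0
    have h1 : pCore 2 X = ⊥ := by
      rw [eq_bot_iff, ← h0]; exact pCore_le_sylow S
    have h2 : (⊤ : Subgroup X) ≤ ⊥ := by
      rw [← h1]
      refine le_trans ?_ hX
      rw [h1]
      intro x _
      rw [mem_centralizer_iff]
      intro y hy
      rw [show y = 1 from hy, one_mul, mul_one]
    obtain ⟨M, ⟨hM1, -⟩, -⟩ := hM
    exact hM1.1 (eq_top_iff.2 (h2.trans bot_le))
  have hSn : ¬ (S : Subgroup X).Normal := by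
    intro hn
    obtain ⟨a, -, x, -, hx⟩ := hcon _ hS hn le_rfl
    exact hx (a x).2
  set R := (S : Subgroup X).map (lam X) with hR
  set E := extHom (S : Subgroup X) with hE
  have hAR : A.map E ≤ normalizer (R : Set (Equiv.Perm X)) := by
    rintro _ ⟨a, -, rfl⟩
    exact extHom_norm _ a
  have c : CfA (R ⊔ A.map E) R (im X) := {
    RA := le_sup_left
    AR := sup_le le_normalizer hAR
    syl := syl_im S
    mp := minPar_im hSn hM
    sc := sc_im hX
    ne := fun h => hS ((Subgroup.map_eq_bot_iff_of_injective _ lam_inj).1 h)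
    char := fun K hKR hKA hKP => by
      by_contra hK
      have hRP : R ≤ im X := (syl_im S).1
      have hK' : K.comap (lam X) ≠ ⊥ := fun h => hK (by
        rw [← map_comap (hKR.trans hRP), h, Subgroup.map_bot])
      have hKS : K.comap (lam X) ≤ (S : Subgroup X) := by
        have := Subgroup.comap_mono (f := lam X) hKR
        rwa [hR, Subgroup.comap_map_eq_self_of_injective lam_inj] at this
      obtain ⟨a, ha, x, hx, hx'⟩ := hcon _ hK' (comap_normal hKP) hKS
      apply hx'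
      show lam X (a x : X) ∈ K
      have h1 : E a ∈ normalizer (K : Set (Equiv.Perm X)) :=
        hKA (mem_sup_right (mem_map_of_mem _ ha))
      have h2 := (mem_normalizer_iff.1 h1 (lam X x)).1 hx
      rw [hE, extHom_conj _ a x.2] at h2
      exact h2 }
  refine c.false_of_odd hFF fun g hg => ?_
  obtain ⟨k, hk⟩ := hA
  refine ⟨k, ?_⟩
  have h1 : g ∈ (R : Set (Equiv.Perm X)) * (A.map E : Set (Equiv.Perm X)) := by
    rw [← Subgroup.coe_mul_of_right_le_normalizer_left _ _ hAR]
    exact hg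
  obtain ⟨r, hr, _, ⟨a, ha, rfl⟩, rfl⟩ := Set.mem_mul.1 h1
  have h2 : ∀ m : ℕ, ∃ s ∈ R, (r * E a) ^ m = s * (E a) ^ m := by
    intro m
    induction m with
    | zero => exact ⟨1, one_mem _, by simp⟩
    | succ m ih =>
      obtain ⟨s, hs, e⟩ := ih
      have h3 : (E a) ^ m * r * ((E a) ^ m)⁻¹ ∈ R :=
        (mem_normalizer_iff.1 (pow_mem (hAR (mem_map_of_mem _ ha)) m) r).1 hr
      refine ⟨s * ((E a) ^ m * r * ((E a) ^ m)⁻¹), mul_mem hs h3, ?_⟩
      rw [pow_succ, e, pow_succ]
      group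
  obtain ⟨s, hs, e⟩ := h2 (2 * k + 1)
  have h3 : a ^ (2 * k + 1) = 1 := by
    rw [← hk]
    exact congrArg Subtype.val (pow_card_eq_one' (G := A) (x := ⟨a, ha⟩))
  rw [e, ← map_pow, h3, map_one, mul_one]
  exact hs

end Cfsg.Agent.H18.PushOdd
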